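import Groth.Agent.FlatMisc.Fibrewise
import Groth.Agent.H23.MulEtale
import Groth.Agent.EtFound.Henselian
import Groth.Agent.S4112

/-!
# Torsion of smooth commutative group schemes over henselian local rings
-/

set_option autoImplicit false
set_option linter.style.haveILetI false
set_option backward.isDefEq.respectTransparency false
set_option backward.isDefEq.respectTransparency.types false

universe u

open CategoryTheory CategoryTheory.Limits AlgebraicGeometry MonoidalCategory CartesianMonoidalCategory MonObj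

namespace Groth.Agent.TorsLift

attribute [local instance] Over.cartesianMonoidalCategory

variable {S : Scheme.{u}} (G : Over S) [GrpObj G] [IsCommMonObj G]

theorem etale_pow [Flat G.hom] [LocallyOfFinitePresentation G.hom] [QuasiCompact G.hom] (N : ℕ)
    (hN : ∀ s : S, (N : S.residueField s) ≠ 0) : Etale (𝟙 G ^ N : G ⟶ G).left := by
  let φ := (𝟙 G ^ N : G ⟶ G)
  haveI : LocallyOfFinitePresentation (φ.left ≫ G.hom) := by rw [Over.w]; infer_instance
  haveI : Flat (φ.left ≫ G.hom) := by rw [Over.w]; infer_instance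
  refine FlatMisc.etale_of_etale_fibres G.hom φ.left fun s => ?_
  let σ := S.fromSpecResidueField s
  let Gs := (Over.pullback σ).obj G
  letI : GrpObj Gs := Functor.grpObjObj
  haveI : LocallyOfFiniteType Gs.hom := inferInstanceAs (LocallyOfFiniteType (pullback.snd G.hom σ))
  haveI : QuasiCompact Gs.hom := inferInstanceAs (QuasiCompact (pullback.snd G.hom σ))
  have h4112 : Etale (𝟙 Gs ^ N : Gs ⟶ Gs).left :=
    S4112.result (S.residueField s) Gs N (hN s)
  have hmap : (Over.pullback σ).map φ = 𝟙 Gs ^ N := H23.MulEtale.map_pow σ N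
  haveI : Etale ((Over.pullback σ).map φ).left := by rw [hmap]; exact h4112
  have h := (H23.MulEtale.isPullback_map σ φ)
  show Etale (pullback.snd φ.left (pullback.fst G.hom σ))
  rw [← h.isoPullback_inv_snd]
  infer_instance

end Groth.Agent.TorsLift

namespace Groth.Agent.TorsLift

theorem existsUnique_lift (R : Type u) [CommRing R] [HenselianLocalRing R]
    (G : Over (Spec (CommRingCat.of R))) [GrpObj G] [IsCommMonObj G]
    [Smooth G.hom] [QuasiCompact G.hom]
    (N : ℕ) (hN : IsUnit (N : R))
    (τ : Over.mk (Spec.map (CommRingCat.ofHom (IsLocalRing.residue R))) ⟶ G) (hτ : τ ^ N = 1) :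
    ∃! σ : Over.mk (𝟙 (Spec (CommRingCat.of R))) ⟶ G,
      σ ^ N = 1 ∧ Over.homMk (Spec.map (CommRingCat.ofHom (IsLocalRing.residue R))) (Category.comp_id _) ≫ σ = τ := by
  let φ : G ⟶ G := (𝟙 G : G ⟶ G) ^ N
  have hfac : ∀ {T : Over (Spec (CommRingCat.of R))} (a : T ⟶ G), a ^ N = 1 ↔ a.left ≫ φ.left = T.hom ≫ η[G].left := by
    intro T a
    have h1 : a ^ N = a ≫ φ := by rw [MonObj.comp_pow, Category.comp_id]
    have h2 : (1 : T ⟶ G) = toUnit T ≫ η[G] := Hom.one_def
    rw [h1, h2]
    constructor
    · intro h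
      have h3 := congrArg CommaMorphism.left h
      simpa using h3
    · intro h
      apply Over.OverMorphism.ext
      simpa using h
  have hres : ∀ s : Spec (CommRingCat.of R), (N : (Spec (CommRingCat.of R)).residueField s) ≠ 0 := fun s h0 => by
    have := hN.map ((Scheme.ΓSpecIso (CommRingCat.of R)).inv ≫
      (Spec (CommRingCat.of R)).evaluation ⊤ s trivial).hom
    rw [map_natCast, h0] at this
    exact not_isUnit_zero this
  haveI : Etale φ.left := etale_pow G N hres
  let P := pullback φ.left η[G].left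
  let q : P ⟶ Spec (CommRingCat.of R) := pullback.snd φ.left η[G].left
  haveI : Etale q := inferInstanceAs (Etale (pullback.snd φ.left η[G].left))
  let u : Spec (CommRingCat.of (IsLocalRing.ResidueField R)) ⟶ P :=
    pullback.lift τ.left (EtFound.cpt R) ((hfac τ).1 hτ)
  obtain ⟨σ₀, ⟨hσq, hσu⟩, huniq⟩ := EtFound.existsUnique_section R q u (pullback.lift_snd _ _ _)
  have hGη : η[G].left ≫ G.hom = 𝟙 _ := Over.w η[G]
  have hw : (σ₀ ≫ pullback.fst φ.left η[G].left) ≫ G.hom = 𝟙 (Spec (CommRingCat.of R)) := by
    have e : pullback.fst φ.left η[G].left ≫ G.hom = q := by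
      rw [← Over.w φ, ← Category.assoc, pullback.condition, Category.assoc, hGη]
      exact Category.comp_id _
    rw [Category.assoc, e, hσq]
  refine ⟨Over.homMk (σ₀ ≫ pullback.fst φ.left η[G].left) hw, ⟨(hfac _).2 ?_, ?_⟩, ?_⟩
  · show (σ₀ ≫ pullback.fst φ.left η[G].left) ≫ φ.left = 𝟙 _ ≫ η[G].left
    rw [Category.assoc, pullback.condition, ← Category.assoc, hσq]
    rfl
  · apply Over.OverMorphism.ext
    show EtFound.cpt R ≫ σ₀ ≫ pullback.fst φ.left η[G].left = τ.left
    rw [← Category.assoc, hσu]
    exact pullback.lift_fst _ _ _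
  · rintro σ ⟨hσN, hστ⟩
    let σ' : Spec (CommRingCat.of R) ⟶ P := pullback.lift σ.left (𝟙 _) ((hfac σ).1 hσN)
    have h1 : σ' ≫ q = 𝟙 _ := pullback.lift_snd _ _ _
    have h2 : EtFound.cpt R ≫ σ' = u := by
      apply pullback.hom_ext
      · rw [Category.assoc, pullback.lift_fst, pullback.lift_fst]
        exact congrArg CommaMorphism.left hστ
      · rw [Category.assoc, pullback.lift_snd, pullback.lift_snd]
        exact Category.comp_id _
    apply Over.OverMorphism.ext
    show σ.left = σ₀ ≫ pullback.fst φ.left η[G].left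
    rw [← huniq σ' ⟨h1, h2⟩]
    exact (pullback.lift_fst _ _ _).symm

end Groth.Agent.TorsLift
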